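import Mathlib
import Cfsg.Prelude.Def_KGroupFacts

set_option autoImplicit false

namespace Cfsg.Agent.Lib.Helper31

/-- Ring automorphisms of a finite field of order `p ^ f`: there are exactly `f`. -/
theorem card_ringAut_of_card {F : Type*} [Field F] [Fintype F] (p f : Nat) [Fact p.Prime]
    [CharP F p] (hF : Fintype.card F = p ^ f) : Nat.card (F ≃+* F) = f := by
  classical
  let _ : Algebra (ZMod p) F := ZMod.algebra F p
  have hfin : Module.finrank (ZMod p) F = f := by
    have h1 : Nat.card F = p ^ Module.finrank (ZMod p) F := by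
      have := Module.card_eq_pow_finrank (K := ZMod p) (V := F)
      rw [Nat.card_eq_fintype_card, this, ZMod.card]
    rw [Nat.card_eq_fintype_card, hF] at h1
    exact (Nat.pow_right_injective (Fact.out : p.Prime).two_le h1).symm
  have hgal : IsGalois (ZMod p) F := inferInstance
  have hcard : Nat.card (F ≃ₐ[ZMod p] F) = Module.finrank (ZMod p) F :=
    IsGalois.card_aut_eq_finrank (ZMod p) F
  rw [← hfin, ← hcard]
  -- ring automorphisms are `ZMod p`-algebra automorphisms
  refine Nat.card_congr ?_
  refine
    { toFun := fun σ => AlgEquiv.ofRingEquiv (f := σ) (fun x => by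
        have : ∀ x : ZMod p, σ (algebraMap (ZMod p) F x) = algebraMap (ZMod p) F x := by
          intro x
          have h2 := RingHom.congr_fun
            (Subsingleton.elim ((σ : F →+* F).comp (algebraMap (ZMod p) F))
              (algebraMap (ZMod p) F)) x
          simpa using h2
        exact this x)
      invFun := fun σ => σ.toRingEquiv
      left_inv := fun σ => by ext x; rfl
      right_inv := fun σ => by ext x; rfl }

/-- Counting `Out G` from a parametrisation of the outer classes. -/
theorem card_out_of_param {G : Type*} [Group G] {S : Type*} (Psi : S → MulAut G)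
    (hsurj : ∀ theta : MulAut G, ∃ (x : G) (s : S), theta = MulAut.conj x * Psi s)
    (hinj : ∀ s t : S, (Psi s)⁻¹ * Psi t ∈ Cfsg.Inn G → s = t) :
    Nat.card (Cfsg.Out G) = Nat.card S := by
  symm
  refine Nat.card_congr (Equiv.ofBijective
    (fun s => (QuotientGroup.mk (Psi s) : Cfsg.Out G)) ⟨?_, ?_⟩)
  · intro s t hst
    have h := QuotientGroup.eq.mp hst
    exact hinj s t h
  · intro q
    induction q using QuotientGroup.induction_on with
    | H theta =>
      obtain ⟨x, s, hx⟩ := hsurj theta
      refine ⟨s, ?_⟩
      show (QuotientGroup.mk (Psi s) : Cfsg.Out G) = QuotientGroup.mk theta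
      rw [QuotientGroup.eq, hx]
      have : (Psi s)⁻¹ * (MulAut.conj x * Psi s) = (Psi s)⁻¹ * MulAut.conj x * Psi s := by
        group
      rw [this]
      have hn : (Cfsg.Inn G).Normal := inferInstance
      have hmem : (MulAut.conj x : MulAut G) ∈ Cfsg.Inn G := ⟨x, rfl⟩
      have := hn.conj_mem _ hmem (Psi s)⁻¹
      simpa using this

end Cfsg.Agent.Lib.Helper31
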